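import Cfsg.Prelude.Def_Spor_Suz
import Cfsg.Agent.SporRec.R3.SuzAut
import Cfsg.Agent.S1679
import Cfsg.Agent.S1694
import Cfsg.Agent.ChevalleyStructure.FieldIso
set_option linter.all false

-- part: SporRec/R3/SuzRel
section
/-!
The permutation representation of the presented Suzuki sporadic group on 1782 points (cosets of the subgroup generated by a, ..., f), checked by kernel computation on packed tables.
-/

set_option autoImplicit false
set_option linter.unusedSimpArgs false

namespace Cfsg.Agent.SporRec.R3.SuzRel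

open Cfsg.Spor Cfsg.Agent.SporRec.R3

/-- Entry `i` of a packed table (12 bits per entry). -/
def app (t i : ℕ) : ℕ := Nat.land (Nat.shiftRight t (Nat.mul 12 i)) 4095

/-- `f` holds on `[s, s + 2^d)`. -/
def allP (f : ℕ → Bool) (d : ℕ) : ℕ → Bool :=
  Nat.rec (motive := fun _ => ℕ → Bool) (fun s => f s)
    (fun k ih s => Bool.and (ih s) (ih (Nat.add s (Nat.pow 2 k)))) d

theorem allP_zero (f : ℕ → Bool) (s : ℕ) : allP f 0 s = f s := rfl

theorem allP_succ (f : ℕ → Bool) (d s : ℕ) :
    allP f (d + 1) s = (allP f d s && allP f d (s + 2 ^ d)) := rfl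

theorem allP_spec (f : ℕ → Bool) (d : ℕ) : ∀ s, allP f d s = true →
    ∀ i, s ≤ i → i < s + 2 ^ d → f i = true := by
  induction d with
  | zero =>
    intro s h i h1 h2
    have : i = s := by simp at h2; omega
    subst this
    exact h
  | succ d ih =>
    intro s h i h1 h2
    rw [allP_succ, Bool.and_eq_true] at h
    rw [pow_succ] at h2
    by_cases h3 : i < s + 2 ^ d
    · exact ih s h.1 i h1 h3
    · exact ih _ h.2 i (by omega) (by omega)

/-- The table of a generator. -/
noncomputable def tab : Suz.Gen → ℕ := fun x => Suz.Gen.rec (motive := fun _ => ℕ) SuzData.Oa SuzData.Ob SuzData.Oc SuzData.Od SuzData.Oe SuzData.Of SuzData.Og x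

/-- Action of a word (first letter acts last) on a point. -/
noncomputable def tr (w : List Suz.Gen) (i : ℕ) : ℕ := List.rec (motive := fun _ => ℕ) i (fun x _ ih => app (tab x) ih) w

theorem tr_nil (i : ℕ) : tr [] i = i := rfl
theorem tr_cons (x : Suz.Gen) (w : List Suz.Gen) (i : ℕ) : tr (x :: w) i = app (tab x) (tr w i) := rfl

/-- Check that the word `w` fixes all points. -/
noncomputable def chk (w : List Suz.Gen) : Bool :=
  allP (fun i => Bool.or (Nat.ble 1782 i) (Nat.beq (tr w i) i)) 12 0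

theorem chk_spec {w : List Suz.Gen} (h : chk w = true) {i : ℕ} (hi : i < 1782) : tr w i = i := by
  have h1 := allP_spec _ 12 0 h i (Nat.zero_le _) (by norm_num; omega)
  rw [Bool.or_eq_true] at h1
  rcases h1 with h1 | h1
  · have := Nat.le_of_ble_eq_true h1
    omega
  · exact Nat.eq_of_beq_eq_true h1

/-- Check that a table maps `[0, 1782)` into itself. -/
noncomputable def bnd (x : Suz.Gen) : Bool :=
  allP (fun i => Bool.or (Nat.ble 1782 i) (Nat.ble (app (tab x) i) 1781)) 12 0

theorem bnd_spec {x : Suz.Gen} (h : bnd x = true) {i : ℕ} (hi : i < 1782) : app (tab x) i < 1782 := by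
  have h1 := allP_spec _ 12 0 h i (Nat.zero_le _) (by norm_num; omega)
  rw [Bool.or_eq_true] at h1
  rcases h1 with h1 | h1
  · have := Nat.le_of_ble_eq_true h1
    omega
  · have := Nat.le_of_ble_eq_true h1
    omega

theorem bnd_a : bnd .a = true := by decide +kernel
theorem bnd_b : bnd .b = true := by decide +kernel
theorem bnd_c : bnd .c = true := by decide +kernel
theorem bnd_d : bnd .d = true := by decide +kernel
theorem bnd_e : bnd .e = true := by decide +kernel
theorem bnd_f : bnd .f = true := by decide +kernel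
theorem bnd_g : bnd .g = true := by decide +kernel
theorem inv_a : chk [.a, .a] = true := by decide +kernel
theorem inv_b : chk [.b, .b] = true := by decide +kernel
theorem inv_c : chk [.c, .c] = true := by decide +kernel
theorem inv_d : chk [.d, .d] = true := by decide +kernel
theorem inv_e : chk [.e, .e] = true := by decide +kernel
theorem inv_f : chk [.f, .f] = true := by decide +kernel
theorem inv_g : chk [.g, .g] = true := by decide +kernel
theorem chk_ab : chk [.a, .b, .a, .b, .a, .b, .a, .b, .a, .b] = true := by decide +kernel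
theorem chk_ac : chk [.a, .c, .a, .c] = true := by decide +kernel
theorem chk_ad : chk [.a, .d, .a, .d] = true := by decide +kernel
theorem chk_ae : chk [.a, .e, .a, .e] = true := by decide +kernel
theorem chk_af : chk [.a, .f, .a, .f] = true := by decide +kernel
theorem chk_ag : chk [.a, .g, .a, .g] = true := by decide +kernel
theorem chk_bc : chk [.b, .c, .b, .c, .b, .c] = true := by decide +kernel
theorem chk_bd : chk [.b, .d, .b, .d] = true := by decide +kernel
theorem chk_be : chk [.b, .e, .b, .e] = true := by decide +kernel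
theorem chk_bf : chk [.b, .f, .b, .f, .b, .f] = true := by decide +kernel
theorem chk_bg : chk [.b, .g, .b, .g, .b, .g] = true := by decide +kernel
theorem chk_cd : chk [.c, .d, .c, .d, .c, .d, .c, .d, .c, .d, .c, .d, .c, .d, .c, .d] = true := by decide +kernel
theorem chk_ce : chk [.c, .e, .c, .e] = true := by decide +kernel
theorem chk_cf : chk [.c, .f, .c, .f] = true := by decide +kernel
theorem chk_cg : chk [.c, .g, .c, .g] = true := by decide +kernel
theorem chk_de : chk [.d, .e, .d, .e, .d, .e] = true := by decide +kernel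
theorem chk_df : chk [.d, .f, .d, .f] = true := by decide +kernel
theorem chk_dg : chk [.d, .g, .d, .g] = true := by decide +kernel
theorem chk_ef : chk [.e, .f, .e, .f] = true := by decide +kernel
theorem chk_eg : chk [.e, .g, .e, .g] = true := by decide +kernel
theorem chk_fg : chk [.f, .g, .f, .g, .f, .g, .f, .g] = true := by decide +kernel
theorem chk_x1 : chk [.a, .d, .c, .d, .c, .d, .c, .d, .c] = true := by decide +kernel
theorem chk_x2 : chk [.a, .g, .f, .g, .f] = true := by decide +kernel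
theorem chk_x3 : chk [.a, .b, .c, .f, .a, .b, .c, .f, .a, .b, .c, .f, .a, .b, .c, .f, .a, .b, .c, .f] = true := by decide +kernel
theorem chk_x4 : chk [.b, .f, .g, .b, .f, .g, .b, .f, .g, .b, .f, .g, .b, .f, .g] = true := by decide +kernel
theorem chk_x5 : chk [.b, .c, .d, .c, .d, .b, .c, .d, .c, .d, .b, .c, .d, .c, .d, .b, .c, .d, .c, .d, .b, .c, .d, .c, .d, .e, .b, .c, .d, .c, .d, .b, .c, .d, .c, .d, .b, .c, .d, .c, .d, .b, .c, .d, .c, .d, .b, .c, .d, .c, .d, .e, .b, .c, .d, .c, .d, .b, .c, .d, .c, .d, .b, .c, .d, .c, .d, .b, .c, .d, .c, .d, .b, .c, .d, .c, .d, .e] = true := by decide +kernel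

theorem bnd_all (x : Suz.Gen) : bnd x = true := by
  cases x
  · exact bnd_a
  · exact bnd_b
  · exact bnd_c
  · exact bnd_d
  · exact bnd_e
  · exact bnd_f
  · exact bnd_g

theorem inv_all (x : Suz.Gen) : chk [x, x] = true := by
  cases x
  · exact inv_a
  · exact inv_b
  · exact inv_c
  · exact inv_d
  · exact inv_e
  · exact inv_f
  · exact inv_g

/-- The function of a generator on the points. -/
noncomputable def fn (x : Suz.Gen) (i : Fin 1782) : Fin 1782 := ⟨app (tab x) i, bnd_spec (bnd_all x) i.2⟩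

theorem fn_val (x : Suz.Gen) (i : Fin 1782) : (fn x i : ℕ) = app (tab x) i := rfl

theorem fn_involutive (x : Suz.Gen) : Function.Involutive (fn x) := by
  intro i
  apply Fin.ext
  rw [fn_val, fn_val]
  exact chk_spec (inv_all x) i.2

/-- The permutation of a generator. -/
noncomputable def gen (x : Suz.Gen) : Equiv.Perm (Fin 1782) := (fn_involutive x).toPerm

theorem gen_apply (x : Suz.Gen) (i : Fin 1782) : gen x i = fn x i := rfl

theorem gen_val (x : Suz.Gen) (i : Fin 1782) : (gen x i : ℕ) = app (tab x) i := rfl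

theorem prod_val (w : List Suz.Gen) (i : Fin 1782) : (((w.map gen).prod i : Fin 1782) : ℕ) = tr w i := by
  induction w with
  | nil => rfl
  | cons x w ih =>
    rw [List.map_cons, List.prod_cons, Equiv.Perm.mul_apply, gen_val, ih, tr_cons]

theorem prod_eq_one {w : List Suz.Gen} (h : chk w = true) : (w.map gen).prod = 1 := by
  ext i
  rw [prod_val, chk_spec h i.2]
  rfl

theorem gen_sq (x : Suz.Gen) : gen x * gen x = 1 := by
  have := prod_eq_one (inv_all x)
  simpa using this

theorem gen_inv (x : Suz.Gen) : (gen x)⁻¹ = gen x := by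
  rw [inv_eq_iff_mul_eq_one]
  exact gen_sq x

/-- Alternating word `(x y)^m` as a list. -/
def alt (x y : Suz.Gen) : ℕ → List Suz.Gen
  | 0 => []
  | m + 1 => x :: y :: alt x y m

theorem alt_prod (x y : Suz.Gen) (m : ℕ) : ((alt x y m).map gen).prod = (gen x * gen y) ^ m := by
  induction m with
  | zero => rfl
  | succ m ih =>
    rw [alt, List.map_cons, List.map_cons, List.prod_cons, List.prod_cons, ih, pow_succ', mul_assoc]

theorem pair_rel {x y : Suz.Gen} {m : ℕ} (h : chk (alt x y m) = true) : (gen x * gen y) ^ m = 1 := by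
  rw [← alt_prod]
  exact prod_eq_one h

theorem pair_rel_symm {x y : Suz.Gen} {m : ℕ} (h : (gen x * gen y) ^ m = 1) : (gen y * gen x) ^ m = 1 := by
  have h1 : (gen y * gen x) = (gen x * gen y)⁻¹ := by
    rw [mul_inv_rev, gen_inv, gen_inv]
  rw [h1, inv_pow, h, inv_one]

theorem cox (x y : Suz.Gen) : (gen x * gen y) ^ coxLabel Suz.edges x y = 1 := by
  cases x <;> cases y
  · exact (pow_one _).trans (gen_sq _)
  · exact pair_rel chk_ab
  · exact pair_rel chk_ac
  · exact pair_rel chk_ad
  · exact pair_rel chk_ae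
  · exact pair_rel chk_af
  · exact pair_rel chk_ag
  · exact pair_rel_symm (pair_rel chk_ab)
  · exact (pow_one _).trans (gen_sq _)
  · exact pair_rel chk_bc
  · exact pair_rel chk_bd
  · exact pair_rel chk_be
  · exact pair_rel chk_bf
  · exact pair_rel chk_bg
  · exact pair_rel_symm (pair_rel chk_ac)
  · exact pair_rel_symm (pair_rel chk_bc)
  · exact (pow_one _).trans (gen_sq _)
  · exact pair_rel chk_cd
  · exact pair_rel chk_ce
  · exact pair_rel chk_cf
  · exact pair_rel chk_cg
  · exact pair_rel_symm (pair_rel chk_ad)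
  · exact pair_rel_symm (pair_rel chk_bd)
  · exact pair_rel_symm (pair_rel chk_cd)
  · exact (pow_one _).trans (gen_sq _)
  · exact pair_rel chk_de
  · exact pair_rel chk_df
  · exact pair_rel chk_dg
  · exact pair_rel_symm (pair_rel chk_ae)
  · exact pair_rel_symm (pair_rel chk_be)
  · exact pair_rel_symm (pair_rel chk_ce)
  · exact pair_rel_symm (pair_rel chk_de)
  · exact (pow_one _).trans (gen_sq _)
  · exact pair_rel chk_ef
  · exact pair_rel chk_eg
  · exact pair_rel_symm (pair_rel chk_af)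
  · exact pair_rel_symm (pair_rel chk_bf)
  · exact pair_rel_symm (pair_rel chk_cf)
  · exact pair_rel_symm (pair_rel chk_df)
  · exact pair_rel_symm (pair_rel chk_ef)
  · exact (pow_one _).trans (gen_sq _)
  · exact pair_rel chk_fg
  · exact pair_rel_symm (pair_rel chk_ag)
  · exact pair_rel_symm (pair_rel chk_bg)
  · exact pair_rel_symm (pair_rel chk_cg)
  · exact pair_rel_symm (pair_rel chk_dg)
  · exact pair_rel_symm (pair_rel chk_eg)
  · exact pair_rel_symm (pair_rel chk_fg)
  · exact (pow_one _).trans (gen_sq _)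

theorem rel_x1 : FreeGroup.lift gen (Suz.a * ((Suz.c * Suz.d) ^ 4)⁻¹) = 1 := by
  have h := prod_eq_one chk_x1
  simp only [List.map_cons, List.map_nil, List.prod_cons, List.prod_nil, mul_one] at h
  simp only [map_mul, map_inv, map_pow, FreeGroup.lift_apply_of, ← inv_pow, mul_inv_rev, gen_inv,
    pow_succ, pow_zero, one_mul, mul_assoc]
  simpa only [mul_assoc] using h

theorem rel_x2 : FreeGroup.lift gen (Suz.a * ((Suz.f * Suz.g) ^ 2)⁻¹) = 1 := by
  have h := prod_eq_one chk_x2
  simp only [List.map_cons, List.map_nil, List.prod_cons, List.prod_nil, mul_one] at h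
  simp only [map_mul, map_inv, map_pow, FreeGroup.lift_apply_of, ← inv_pow, mul_inv_rev, gen_inv,
    pow_succ, pow_zero, one_mul, mul_assoc]
  simpa only [mul_assoc] using h

theorem rel_x3 : FreeGroup.lift gen ((Suz.a * Suz.b * Suz.c * Suz.f) ^ 5) = 1 := by
  have h := prod_eq_one chk_x3
  simp only [List.map_cons, List.map_nil, List.prod_cons, List.prod_nil, mul_one] at h
  simp only [map_mul, map_inv, map_pow, FreeGroup.lift_apply_of, ← inv_pow, mul_inv_rev, gen_inv,
    pow_succ, pow_zero, one_mul, mul_assoc]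
  simpa only [mul_assoc] using h

theorem rel_x4 : FreeGroup.lift gen ((Suz.b * Suz.f * Suz.g) ^ 5) = 1 := by
  have h := prod_eq_one chk_x4
  simp only [List.map_cons, List.map_nil, List.prod_cons, List.prod_nil, mul_one] at h
  simp only [map_mul, map_inv, map_pow, FreeGroup.lift_apply_of, ← inv_pow, mul_inv_rev, gen_inv,
    pow_succ, pow_zero, one_mul, mul_assoc]
  simpa only [mul_assoc] using h

theorem rel_x5 : FreeGroup.lift gen (((Suz.b * Suz.c * Suz.d * Suz.c * Suz.d) ^ 5 * Suz.e) ^ 3) = 1 := by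
  have h := prod_eq_one chk_x5
  simp only [List.map_cons, List.map_nil, List.prod_cons, List.prod_nil, mul_one] at h
  simp only [map_mul, map_inv, map_pow, FreeGroup.lift_apply_of, ← inv_pow, mul_inv_rev, gen_inv,
    pow_succ, pow_zero, one_mul, mul_assoc]
  simpa only [mul_assoc] using h

theorem rels_hold : ∀ r ∈ (coxRelators Suz.edges ∪ {r | r ∈ Suz.extra} : Set (FreeGroup Suz.Gen)),
    FreeGroup.lift gen r = 1 := by
  rintro r (⟨x, _, y, _, rfl⟩ | hr)
  · rw [map_pow, map_mul, FreeGroup.lift_apply_of, FreeGroup.lift_apply_of]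
    exact cox x y
  · change r ∈ Suz.extra at hr
    rw [Suz.extra, List.mem_cons, List.mem_cons, List.mem_cons, List.mem_cons, List.mem_singleton] at hr
    rcases hr with rfl | rfl | rfl | rfl | rfl
    · exact rel_x1
    · exact rel_x2
    · exact rel_x3
    · exact rel_x4
    · exact rel_x5

/-- The permutation representation of degree 1782. -/
noncomputable def φ : Suz →* Equiv.Perm (Fin 1782) := PresentedGroup.toGroup rels_hold

theorem φ_of (x : Suz.Gen) :
    φ (PresentedGroup.mk (coxRelators Suz.edges ∪ {r | r ∈ Suz.extra}) (FreeGroup.of x)) = gen x :=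
  PresentedGroup.toGroup.of rels_hold

end Cfsg.Agent.SporRec.R3.SuzRel
end

-- part: SporRec/R3/SuzLink
section
/-! The presented Suzuki group acts as `Sp`, the group `G₂(4)` is `Hs`. -/

set_option autoImplicit false
set_option Elab.async false

noncomputable section

namespace Cfsg.Agent.SporRec.R3.SuzLink

open Cfsg Cfsg.Agent.S1679
open Cfsg.Agent.SporRec Cfsg.Agent.SporRec.GF4 Cfsg.Agent.SporRec.G24Mat
  Cfsg.Agent.SporRec.G24Match Cfsg.Agent.SporRec.G24Suz Cfsg.Agent.SporRec.G24Rel
open Cfsg.Agent.SporRec.R3.Kernel Cfsg.Agent.SporRec.R3.SuzAct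
open Cfsg.Agent.SporRec.R3.Orb

/-- letters -/
def g6 : Fin 6 → SuzData.Gen
  | 0 => .a
  | 1 => .b
  | 2 => .c
  | 3 => .d
  | 4 => .e
  | 5 => .f

theorem g6_surj : Function.Surjective g6 := by
  intro x
  cases x
  · exact ⟨0, rfl⟩
  · exact ⟨1, rfl⟩
  · exact ⟨2, rfl⟩
  · exact ⟨3, rfl⟩
  · exact ⟨4, rfl⟩
  · exact ⟨5, rfl⟩

/-- generator triples -/
def ys (i : Fin 6) : Equiv.Perm (Fin 1782) × Equiv.Perm (Fin 1365) × Equiv.Perm (Fin 1365) := gen0 (g6 i)

theorem closure_ys : Subgroup.closure (Set.range ys) = Hs := by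
  unfold Hs
  congr 1
  ext u
  constructor
  · rintro ⟨i, rfl⟩; exact ⟨g6 i, rfl⟩
  · rintro ⟨x, rfl⟩
    obtain ⟨i, rfl⟩ := g6_surj x
    exact ⟨i, rfl⟩

theorem chkR6a1 : (R6.take 9).all (fun w => SuzS.chkEqW (w.map g6) []) = true := by decide +kernel
theorem chkR6a2 : ((R6.drop 9).take 7).all (fun w => SuzS.chkEqW (w.map g6) []) = true := by decide +kernel
theorem chkR6a3 : ((R6.drop 16).take 6).all (fun w => SuzS.chkEqW (w.map g6) []) = true := by decide +kernel
theorem chkR6b : SuzS.chkEqW ((R6.getD 22 []).map g6) [] = true := by decide +kernel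
theorem chkR6o : allB (fun y => Nat.beq (evalW SuzData.tabO ((R6.getD 23 []).map g6) y) (evalW SuzData.tabO [] y))
    1782 = true := by decide +kernel
theorem chkR6p : allB (fun y => Nat.beq (evalW SuzData.tabP ((R6.getD 23 []).map g6) y) (evalW SuzData.tabP [] y))
    1365 = true := by decide +kernel
theorem chkR6l : allB (fun y => Nat.beq (evalW SuzData.tabL ((R6.getD 23 []).map g6) y) (evalW SuzData.tabL [] y))
    1365 = true := by decide +kernel

theorem chkR6c : SuzS.chkEqW ((R6.getD 23 []).map g6) [] = true := by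
  unfold SuzS.chkEqW
  rw [chkR6o, chkR6p, chkR6l]

theorem chkR6 : R6.all (fun w => SuzS.chkEqW (w.map g6) []) = true := by
  have h : R6 = R6.take 9 ++ ((R6.drop 9).take 7 ++ ((R6.drop 16).take 6 ++ [R6.getD 22 [], R6.getD 23 []])) := by
    decide +kernel
  rw [h, List.all_append, List.all_append, List.all_append, chkR6a1, chkR6a2, chkR6a3, List.all_cons, List.all_cons,
    List.all_nil, chkR6b, chkR6c]
  rfl

theorem ys_rel : ∀ w ∈ R6, (w.map ys).prod = 1 := by
  intro w hw
  have h1 := List.all_eq_true.1 chkR6 w hw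
  have h2 := SuzS.gw_eq h1
  have h3 : ∀ v : List (Fin 6), (v.map ys).prod = ((gw gen (v.map g6) : Hs) : _) := by
    intro v
    induction v with
    | nil => rfl
    | cons i v ih => rw [List.map_cons, List.prod_cons, ih]; rfl
  rw [h3, h2]; rfl

/-- the subgroup `⟨a,...,f⟩` of `Suz` -/
def D6 : Subgroup Spor.Suz := Subgroup.closure (Set.range xs)

theorem D6_ge (_ : Finite D6) : 251596800 ≤ Nat.card D6 := by
  obtain ⟨φ, hφ⟩ := G24Lower.exists_hom
  rw [map_closure_eq] at hφ
  exact hφ.trans (Nat.card_le_card_of_surjective _ (MonoidHom.subgroupMap_surjective φ _))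

theorem D6_fin : Finite D6 := (G24Upper.card_closure_le xs xs_rel).1

theorem card_D6 : Nat.card D6 = 251596800 :=
  le_antisymm (G24Upper.card_closure_le xs xs_rel).2 (D6_ge D6_fin)

/-- the action of `Suz` -/
def φ : Spor.Suz →* Equiv.Perm (Fin 1782) := SuzRel.φ

theorem φ_xs (i : Fin 6) : φ (xs i) = pO (g6 i) := by
  have h : φ (xs i) = SuzRel.gen (G24Suz.gen i) := SuzRel.φ_of (G24Suz.gen i)
  rw [h]
  ext y
  fin_cases i <;> rfl

theorem φ_g : φ (q (FreeGroup.of .g)) = pOg := by
  have h : φ (q (FreeGroup.of .g)) = SuzRel.gen .g := SuzRel.φ_of .g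
  rw [h]
  ext y
  rfl

theorem chk_a : (Nat.beq (look (SuzData.tabO .b) 3) 3) = false := by decide +kernel

theorem φ_inj : Function.Injective φ := by
  rw [← MonoidHom.ker_eq_bot_iff]
  rcases S1694.result.1.eq_bot_or_eq_top_of_normal φ.ker inferInstance with h | h
  · exact h
  · exfalso
    have h1 : xs 1 ∈ φ.ker := by rw [h]; trivial
    rw [MonoidHom.mem_ker, φ_xs] at h1
    have h2 := congrArg (fun p : Equiv.Perm (Fin 1782) => (p ⟨3, by norm_num⟩).val) h1
    have h3 : look (SuzData.tabO .b) 3 = 3 := h2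
    have h4 := chk_a
    rw [h3] at h4
    exact absurd h4 (by decide)

theorem range_ρO : ρO.range = D6.map φ := by
  rw [D6, MonoidHom.map_closure, MonoidHom.range_eq_map, ← gen_clo, MonoidHom.map_closure]
  congr 1
  ext u
  constructor
  · rintro ⟨_, ⟨x, rfl⟩, rfl⟩
    obtain ⟨i, rfl⟩ := g6_surj x
    exact ⟨xs i, ⟨i, rfl⟩, φ_xs i⟩
  · rintro ⟨_, ⟨i, rfl⟩, rfl⟩
    exact ⟨gen (g6 i), ⟨g6 i, rfl⟩, (φ_xs i).symm⟩

theorem card_range_ρO : Nat.card ρO.range = 251596800 := by
  rw [range_ρO, ← card_D6]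
  exact (Nat.card_congr (Subgroup.equivMapOfInjective D6 φ φ_inj).toEquiv).symm

theorem Hs_ge (_ : Finite Hs) : 251596800 ≤ Nat.card Hs := by
  rw [← card_range_ρO]
  exact Nat.card_le_card_of_surjective _ ρO.rangeRestrict_surjective

theorem Hs_fin : Finite Hs := by
  have := (G24Upper.card_closure_le ys ys_rel).1
  rwa [closure_ys] at this

theorem card_Hs : Nat.card Hs = 251596800 := by
  have := (G24Upper.card_closure_le ys ys_rel).2
  rw [closure_ys] at this
  exact le_antisymm this (Hs_ge Hs_fin)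

theorem Hs_iso : Nonempty (Hs ≃* Gp) :=
  iso_of_gens ys A ys_rel A_rel _ Gp closure_ys closure_A Hs_ge card_Gp_ge

theorem link_H (K : Type) [Field K] [Fintype K] (hK : Fintype.card K = 4) :
    Nonempty (Cfsg.Lie.chevG2.group K ≃* Hs) := by
  obtain ⟨e⟩ := Hs_iso
  have f : K ≃+* F4 := FiniteField.ringEquivOfCardEq (by rw [hK, F4.card_F4])
  exact ⟨(ChevalleyStructure.FieldIso.groupEquiv Cfsg.Lie.chevG2 f).trans e.symm⟩

theorem ρO_inj : Function.Injective ρO := by
  have := Hs_fin
  have h : Function.Injective ρO.rangeRestrict :=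
    ((Nat.bijective_iff_surjective_and_card ρO.rangeRestrict).2
      ⟨ρO.rangeRestrict_surjective, by rw [card_Hs, card_range_ρO]⟩).1
  intro x y hxy
  exact h (Subtype.ext hxy)

theorem range_φ : φ.range = Sp := by
  apply le_antisymm
  · rintro _ ⟨x, rfl⟩
    obtain ⟨w, rfl⟩ : ∃ w, q w = x := QuotientGroup.mk'_surjective _ x
    induction w using FreeGroup.induction_on with
    | C1 => simp
    | of x =>
      cases x
      · exact (φ_xs 0).symm ▸ Subgroup.subset_closure (Set.mem_insert_of_mem _ ⟨_, rfl⟩)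
      · exact (φ_xs 1).symm ▸ Subgroup.subset_closure (Set.mem_insert_of_mem _ ⟨_, rfl⟩)
      · exact (φ_xs 2).symm ▸ Subgroup.subset_closure (Set.mem_insert_of_mem _ ⟨_, rfl⟩)
      · exact (φ_xs 3).symm ▸ Subgroup.subset_closure (Set.mem_insert_of_mem _ ⟨_, rfl⟩)
      · exact (φ_xs 4).symm ▸ Subgroup.subset_closure (Set.mem_insert_of_mem _ ⟨_, rfl⟩)
      · exact (φ_xs 5).symm ▸ Subgroup.subset_closure (Set.mem_insert_of_mem _ ⟨_, rfl⟩)
      · exact φ_g.symm ▸ Subgroup.subset_closure (Set.mem_insert _ _)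
    | inv_of x ih => rw [map_inv, map_inv]; exact Sp.inv_mem ih
    | mul x y hx hy => rw [map_mul, map_mul]; exact Sp.mul_mem hx hy
  · unfold Sp
    rw [Subgroup.closure_le]
    rintro _ (rfl | ⟨x, rfl⟩)
    · exact ⟨_, φ_g⟩
    · obtain ⟨i, rfl⟩ := g6_surj x
      exact ⟨_, φ_xs i⟩

theorem link_Sp : Nonempty (Cfsg.Spor.Suz ≃* Sp) :=
  ⟨(MonoidHom.ofInjective φ_inj).trans (MulEquiv.subgroupCongr range_φ)⟩

theorem card_Sp : Nat.card Sp = 448345497600 := by
  obtain ⟨e⟩ := link_Sp
  rw [← Nat.card_congr e.toEquiv]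
  exact S1694.result.2

theorem simple_Sp : IsSimpleGroup Sp := by
  obtain ⟨e⟩ := link_Sp
  have := S1694.result.1
  exact MulEquiv.isSimpleGroup e.symm

theorem chk_g0 : Nat.ble 417 (look SuzData.Og 0) = true := by decide +kernel
theorem chk_g2 : Nat.ble 417 (look SuzData.Og 11) = true := by decide +kernel

theorem Sp_trans0 (x : Fin 1782) : ∃ g ∈ Sp, g o0 = x := by
  have hg : pOg ∈ Sp := Subgroup.subset_closure (Set.mem_insert _ _)
  have h0 : pOg o0 ∈ Λ0 := by
    rw [mem_Λ0]; have := chk_g0; rw [Nat.ble_eq] at this; exact this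
  have hΛ : ∀ y ∈ Λ0, ∃ g ∈ Sp, g o0 = y := by
    intro y hy
    obtain ⟨h, hh⟩ := transΛ _ y h0 hy
    exact ⟨ρO h * pOg, Sp.mul_mem (SuzAut.ρO_mem h) hg, by rw [Equiv.Perm.mul_apply, hh]⟩
  by_cases h1 : x ∈ Λ0
  · exact hΛ x h1
  · by_cases h2 : x = o0
    · exact ⟨1, Sp.one_mem, by rw [h2]; rfl⟩
    · have h3 : x ∈ Δ0 := by
        rw [mem_Δ0]
        rw [mem_Λ0] at h1
        have : x.val ≠ 0 := fun e => h2 (Fin.ext e)
        omega
      have h4 : (⟨11, by norm_num⟩ : Fin 1782) ∈ Δ0 := by rw [mem_Δ0]; simp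
      obtain ⟨k, hk⟩ := transΔ _ x h4 h3
      have h5 : pOg ⟨11, by norm_num⟩ ∈ Λ0 := by
        rw [mem_Λ0]; have := chk_g2; rw [Nat.ble_eq] at this; exact this
      obtain ⟨u, hu, hu'⟩ := hΛ _ h5
      refine ⟨ρO k * (pOg⁻¹ * u), Sp.mul_mem (SuzAut.ρO_mem k) (Sp.mul_mem (Sp.inv_mem hg) hu), ?_⟩
      rw [Equiv.Perm.mul_apply, Equiv.Perm.mul_apply, hu', ← hk]
      simp

theorem Sp_trans (x y : Fin 1782) : ∃ g ∈ Sp, g x = y := by
  obtain ⟨u, hu, rfl⟩ := Sp_trans0 x
  obtain ⟨v, hv, rfl⟩ := Sp_trans0 y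
  exact ⟨v * u⁻¹, Sp.mul_mem hv (Sp.inv_mem hu), by rw [Equiv.Perm.mul_apply]; simp⟩

theorem Sp_stab : ∀ g ∈ Sp, g o0 = o0 → ∃ h : Hs, ρO h = g := by
  have h1 := orb_card (MonoidHom.id (Equiv.Perm (Fin 1782))) Sp o0
  have h2 : orb (MonoidHom.id (Equiv.Perm (Fin 1782))) Sp o0 = Set.univ := by
    ext x
    exact ⟨fun _ => trivial, fun _ => Sp_trans0 x⟩
  rw [h2, Set.ncard_univ, Nat.card_fin, card_Sp] at h1
  have h3 : ρO.range ≤ (Sp ⊓ stab (MonoidHom.id (Equiv.Perm (Fin 1782))) o0 :
      Subgroup (Equiv.Perm (Fin 1782))) := by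
    rintro _ ⟨h, rfl⟩
    exact ⟨SuzAut.ρO_mem h, ρO_zero h⟩
  have h4 := eq_of_le_of_card h3 (by rw [card_range_ρO]; omega)
  intro g hg hg0
  have h5 : g ∈ ρO.range := by rw [h4]; exact ⟨hg, hg0⟩
  exact h5

end Cfsg.Agent.SporRec.R3.SuzLink
end
end
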