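import Mathlib
import Cfsg.Agent.SporRec.R3.Kernel
set_option linter.all false

-- part: SporRec/R3/Config
section
/-! Abstract rank three configurations: adjacency, regularity, the parameters `lam`, `mu`,
counting identities. -/

set_option autoImplicit false

namespace Cfsg.Agent.SporRec.R3.Config

open Finset

/-- A transitive permutation group `G` on `Ω`, a point `α`, an action of `H` identified with the
stabiliser of `α`, with exactly three orbits `{α}`, `Δ`, `Λ` of different lengths. -/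
structure Conf (Ω : Type*) [Fintype Ω] [DecidableEq Ω] (H : Type*) [Group H] where
  G : Subgroup (Equiv.Perm Ω)
  α : Ω
  act : H →* Equiv.Perm Ω
  Δ : Finset Ω
  Λ : Finset Ω
  trans : ∀ x y : Ω, ∃ g ∈ G, g x = y
  act_mem : ∀ h, act h ∈ G
  act_fix : ∀ h, act h α = α
  act_surj : ∀ g ∈ G, g α = α → ∃ h, act h = g
  hΔ : ∀ h, ∀ x ∈ Δ, act h x ∈ Δ
  hΛ : ∀ h, ∀ x ∈ Λ, act h x ∈ Λ
  tΔ : ∀ x ∈ Δ, ∀ y ∈ Δ, ∃ h, act h x = y
  tΛ : ∀ x ∈ Λ, ∀ y ∈ Λ, ∃ h, act h x = y
  cover : ∀ x, x = α ∨ x ∈ Δ ∨ x ∈ Λ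
  αΔ : α ∉ Δ
  αΛ : α ∉ Λ
  disj : Disjoint Δ Λ
  neΔ : Δ.Nonempty
  neΛ : Λ.Nonempty
  card_ne : Δ.card ≠ Λ.card

namespace Conf

variable {Ω : Type*} [Fintype Ω] [DecidableEq Ω] {H : Type*} [Group H] (C : Conf Ω H)

/-- adjacency in the orbital graph of `Δ` -/
def adj (x y : Ω) : Prop := ∃ g ∈ C.G, g C.α = x ∧ g⁻¹ y ∈ C.Δ

noncomputable instance adjDec (x : Ω) : DecidablePred (C.adj x) := fun _ => Classical.dec _
noncomputable instance adjDec2 (x y : Ω) : Decidable (C.adj x y) := Classical.dec _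

theorem adj_iff {g : Equiv.Perm Ω} (hg : g ∈ C.G) {x : Ω} (hx : g C.α = x) (y : Ω) :
    C.adj x y ↔ g⁻¹ y ∈ C.Δ := by
  constructor
  · rintro ⟨g', hg', hx', hy⟩
    have h1 : g⁻¹ * g' ∈ C.G := C.G.mul_mem (C.G.inv_mem hg) hg'
    have h2 : (g⁻¹ * g') C.α = C.α := by
      rw [Equiv.Perm.mul_apply, hx', ← hx]; simp
    obtain ⟨h, hh⟩ := C.act_surj _ h1 h2
    have := C.hΔ h _ hy
    rw [hh] at this
    simpa [Equiv.Perm.mul_apply] using this
  · intro h; exact ⟨g, hg, hx, h⟩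

theorem adj_smul {g : Equiv.Perm Ω} (hg : g ∈ C.G) (x y : Ω) :
    C.adj (g x) (g y) ↔ C.adj x y := by
  obtain ⟨u, hu, hux⟩ := C.trans C.α x
  rw [C.adj_iff hu hux, C.adj_iff (C.G.mul_mem hg hu) (x := g x) (by simp [Equiv.Perm.mul_apply, hux])]
  simp [mul_inv_rev, Equiv.Perm.mul_apply]

theorem adj_act (h : H) (x y : Ω) : C.adj (C.act h x) (C.act h y) ↔ C.adj x y :=
  C.adj_smul (C.act_mem h) x y

theorem adj_alpha (y : Ω) : C.adj C.α y ↔ y ∈ C.Δ := by
  rw [C.adj_iff C.G.one_mem (x := C.α) (by simp)]; simp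

/-- neighbours -/
noncomputable def N (x : Ω) : Finset Ω := univ.filter (C.adj x)

theorem mem_N (x y : Ω) : y ∈ C.N x ↔ C.adj x y := by simp [N]

theorem N_alpha : C.N C.α = C.Δ := by ext y; rw [mem_N, adj_alpha]

theorem N_smul {g : Equiv.Perm Ω} (hg : g ∈ C.G) (x : Ω) : C.N (g x) = (C.N x).map g.toEmbedding := by
  ext y
  rw [mem_N, Finset.mem_map_equiv, mem_N, ← C.adj_smul hg x]
  simp

theorem card_N (x : Ω) : (C.N x).card = C.Δ.card := by
  obtain ⟨g, hg, hx⟩ := C.trans C.α x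
  rw [← hx, C.N_smul hg, Finset.card_map, C.N_alpha]

theorem adj_alpha_symm (x : Ω) : C.adj x C.α ↔ x ∈ C.Δ := by
  classical
  -- in-neighbours
  let M : Ω → Finset Ω := fun y => univ.filter fun x => C.adj x y
  have hM : ∀ x y, x ∈ M y ↔ C.adj x y := fun x y => by simp [M]
  have hMc : ∀ y, (M y).card = (M C.α).card := by
    intro y
    obtain ⟨g, hg, hx⟩ := C.trans C.α y
    have : M (g C.α) = (M C.α).map g.toEmbedding := by
      ext z
      rw [hM, Finset.mem_map_equiv, hM, ← C.adj_smul hg _ C.α]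
      simp
    rw [← hx, this, Finset.card_map]
  have hsum : ∑ x, (C.N x).card = ∑ y, (M y).card := by
    have := Finset.sum_card_bipartiteAbove_eq_sum_card_bipartiteBelow (s := (univ : Finset Ω))
      (t := (univ : Finset Ω)) (fun x y => C.adj x y)
    exact this
  have hpos : 0 < Fintype.card Ω := Fintype.card_pos_iff.mpr ⟨C.α⟩
  have hcard : (M C.α).card = C.Δ.card := by
    rw [Finset.sum_congr rfl (fun x _ => C.card_N x), Finset.sum_congr rfl (fun y _ => hMc y)] at hsum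
    simp only [Finset.sum_const, smul_eq_mul, Finset.card_univ] at hsum
    exact (Nat.eq_of_mul_eq_mul_left hpos hsum).symm
  have hinv : ∀ h x, x ∈ M C.α → C.act h x ∈ M C.α := by
    intro h x hx
    rw [hM] at hx ⊢
    have := (C.adj_act h x C.α).2 hx
    rwa [C.act_fix] at this
  have hα : C.α ∉ M C.α := by rw [hM, C.adj_alpha]; exact C.αΔ
  have key : M C.α = C.Δ := by
    by_cases hx : ∃ x ∈ C.Δ, x ∈ M C.α
    · obtain ⟨x, hxΔ, hxM⟩ := hx
      have hsub : C.Δ ⊆ M C.α := by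
        intro y hy
        obtain ⟨h, rfl⟩ := C.tΔ x hxΔ y hy
        exact hinv h x hxM
      exact (Finset.eq_of_subset_of_card_le hsub (le_of_eq hcard)).symm
    · exfalso
      push Not at hx
      have hsubΛ : M C.α ⊆ C.Λ := by
        intro y hy
        rcases C.cover y with h | h | h
        · exact absurd (h ▸ hy) hα
        · exact absurd hy (hx y h)
        · exact h
      have hne : (M C.α).Nonempty := by
        rw [← Finset.card_pos, hcard]; exact C.neΔ.card_pos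
      obtain ⟨y, hy⟩ := hne
      have hΛ' : C.Λ ⊆ M C.α := by
        intro z hz
        obtain ⟨h, rfl⟩ := C.tΛ y (hsubΛ hy) z hz
        exact hinv h y hy
      have : M C.α = C.Λ := Finset.Subset.antisymm hsubΛ hΛ'
      exact C.card_ne (by rw [← hcard, this])
  rw [← hM, key]

theorem adj_symm {x y : Ω} (h : C.adj x y) : C.adj y x := by
  obtain ⟨g, hg, hy⟩ := C.trans C.α y
  rw [C.adj_iff hg hy]
  have : C.adj (g⁻¹ x) C.α := by
    rw [← C.adj_smul hg]; simpa [hy] using h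
  exact (C.adj_alpha_symm _).1 this

theorem adj_comm (x y : Ω) : C.adj x y ↔ C.adj y x := ⟨C.adj_symm, C.adj_symm⟩

theorem not_adj_self (x : Ω) : ¬ C.adj x x := by
  obtain ⟨g, hg, hx⟩ := C.trans C.α x
  rw [C.adj_iff hg hx, ← hx]; simpa using C.αΔ

/-- number of common neighbours -/
noncomputable def cn (x y : Ω) : ℕ := (univ.filter fun z => C.adj x z ∧ C.adj y z).card

theorem cn_smul {g : Equiv.Perm Ω} (hg : g ∈ C.G) (x y : Ω) : C.cn (g x) (g y) = C.cn x y := by
  classical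
  unfold cn
  have : (univ.filter fun z => C.adj (g x) z ∧ C.adj (g y) z) =
      (univ.filter fun z => C.adj x z ∧ C.adj y z).map g.toEmbedding := by
    ext z
    rw [Finset.mem_map_equiv]
    simp only [mem_filter, mem_univ, true_and]
    rw [← C.adj_smul hg x, ← C.adj_smul hg y]
    simp
  rw [this, Finset.card_map]

theorem cn_self (x : Ω) : C.cn x x = C.Δ.card := by
  unfold cn
  have : (univ.filter fun z => C.adj x z ∧ C.adj x z) = C.N x := by ext z; simp [mem_N]
  rw [this, C.card_N]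

/-- `lam` -/
noncomputable def lam : ℕ := C.cn C.α C.neΔ.choose
/-- `mu` -/
noncomputable def mu : ℕ := C.cn C.α C.neΛ.choose

theorem cn_adj {x y : Ω} (h : C.adj x y) : C.cn x y = C.lam := by
  obtain ⟨g, hg, hx⟩ := C.trans C.α x
  have h1 := (C.adj_iff hg hx y).1 h
  obtain ⟨k, hk⟩ := C.tΔ _ C.neΔ.choose_spec _ h1
  have e1 : C.cn x y = C.cn C.α (g⁻¹ y) := by
    rw [← C.cn_smul hg C.α]; simp [hx]
  rw [e1, ← hk]
  have := C.cn_smul (C.act_mem k) C.α C.neΔ.choose
  rw [C.act_fix] at this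
  exact this

theorem cn_nonadj {x y : Ω} (hne : x ≠ y) (h : ¬ C.adj x y) : C.cn x y = C.mu := by
  obtain ⟨g, hg, hx⟩ := C.trans C.α x
  have h1 := mt (C.adj_iff hg hx y).2 h
  have h2 : g⁻¹ y ∈ C.Λ := by
    rcases C.cover (g⁻¹ y) with h | h | h
    · exfalso; apply hne
      rw [Equiv.Perm.inv_eq_iff_eq] at h
      rw [h, hx]
    · exact absurd h h1
    · exact h
  obtain ⟨k, hk⟩ := C.tΛ _ C.neΛ.choose_spec _ h2
  have e1 : C.cn x y = C.cn C.α (g⁻¹ y) := by
    rw [← C.cn_smul hg C.α]; simp [hx]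
  rw [e1, ← hk]
  have := C.cn_smul (C.act_mem k) C.α C.neΛ.choose
  rw [C.act_fix] at this
  exact this

/-- for `x ∈ Λ`: number of neighbours in `Δ` is `mu` -/
theorem card_Δ_adj {x : Ω} (hx : x ∈ C.Λ) : (C.Δ.filter fun d => C.adj d x).card = C.mu := by
  have hne : C.α ≠ x := fun h => C.αΛ (h ▸ hx)
  have hna : ¬ C.adj C.α x := by
    rw [C.adj_alpha]; exact fun h => (Finset.disjoint_left.1 C.disj) h hx
  rw [← C.cn_nonadj hne hna]
  unfold cn
  congr 1
  ext z
  simp only [mem_filter, mem_univ, true_and, C.adj_alpha, C.adj_comm x z]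

/-- for `d ∈ Δ`: number of neighbours in `Δ` is `lam` -/
theorem card_Δ_adj' {d : Ω} (hd : d ∈ C.Δ) : (C.Δ.filter fun z => C.adj d z).card = C.lam := by
  rw [← C.cn_adj ((C.adj_alpha d).2 hd)]
  unfold cn
  congr 1
  ext z
  simp only [mem_filter, mem_univ, true_and, C.adj_alpha]

/-- for `d ∈ Δ`: number of neighbours in `Λ` -/
theorem card_Λ_adj {d : Ω} (hd : d ∈ C.Δ) :
    (C.Λ.filter fun z => C.adj d z).card + C.lam + 1 = C.Δ.card := by
  classical
  have h1 : C.N d = ((C.Λ.filter fun z => C.adj d z) ∪ (C.Δ.filter fun z => C.adj d z)) ∪ {C.α} := by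
    ext z
    simp only [mem_N, mem_union, mem_filter, mem_singleton]
    constructor
    · intro h
      rcases C.cover z with h' | h' | h'
      · exact Or.inr h'
      · exact Or.inl (Or.inr ⟨h', h⟩)
      · exact Or.inl (Or.inl ⟨h', h⟩)
    · rintro ((⟨_, h⟩ | ⟨_, h⟩) | h)
      · exact h
      · exact h
      · rw [h, C.adj_comm]; exact (C.adj_alpha d).2 hd
  have hd1 : Disjoint (C.Λ.filter fun z => C.adj d z) (C.Δ.filter fun z => C.adj d z) := by
    rw [Finset.disjoint_left]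
    intro z hz hz'
    exact (Finset.disjoint_left.1 C.disj) (mem_filter.1 hz').1 (mem_filter.1 hz).1
  have hd2 : Disjoint ((C.Λ.filter fun z => C.adj d z) ∪ (C.Δ.filter fun z => C.adj d z)) {C.α} := by
    rw [Finset.disjoint_singleton_right]
    simp only [mem_union, mem_filter, not_or, not_and]
    exact ⟨fun h => absurd h C.αΛ, fun h => absurd h C.αΔ⟩
  have h2 := C.card_N d
  rw [h1, card_union_of_disjoint hd2, card_union_of_disjoint hd1, C.card_Δ_adj' hd, card_singleton] at h2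
  exact h2

/-- for `x ∈ Λ`: number of neighbours in `Λ` -/
theorem card_Λ_adj' {x : Ω} (hx : x ∈ C.Λ) :
    (C.Λ.filter fun z => C.adj x z).card + C.mu = C.Δ.card := by
  classical
  have h1 : C.N x = ((C.Λ.filter fun z => C.adj x z) ∪ (C.Δ.filter fun z => C.adj z x)) := by
    ext z
    simp only [mem_N, mem_union, mem_filter]
    constructor
    · intro h
      rcases C.cover z with h' | h' | h'
      · exfalso
        rw [h', C.adj_comm, C.adj_alpha] at h
        exact (Finset.disjoint_left.1 C.disj) h hx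
      · exact (Or.inr ⟨h', C.adj_symm h⟩)
      · exact (Or.inl ⟨h', h⟩)
    · rintro (⟨_, h⟩ | ⟨_, h⟩)
      · exact h
      · exact C.adj_symm h
  have hd1 : Disjoint (C.Λ.filter fun z => C.adj x z) (C.Δ.filter fun z => C.adj z x) := by
    rw [Finset.disjoint_left]
    intro z hz hz'
    exact (Finset.disjoint_left.1 C.disj) (mem_filter.1 hz').1 (mem_filter.1 hz).1
  have h2 := C.card_N x
  rw [h1, card_union_of_disjoint hd1, C.card_Δ_adj hx] at h2
  exact h2

/-- the basic identity `k (k - 1 - lam) = l mu` -/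
theorem k_l_identity (c : ℕ) (hc : c + C.lam + 1 = C.Δ.card) : C.Δ.card * c = C.Λ.card * C.mu := by
  classical
  have hsum : ∑ d ∈ C.Δ, (C.Λ.filter fun z => C.adj d z).card =
      ∑ x ∈ C.Λ, (C.Δ.filter fun d => C.adj d x).card :=
    Finset.sum_card_bipartiteAbove_eq_sum_card_bipartiteBelow (fun x y => C.adj x y)
  rw [Finset.sum_congr rfl (fun x hx => show _ = c by have := C.card_Λ_adj hx; omega),
    Finset.sum_congr rfl (fun y hy => C.card_Δ_adj hy)] at hsum
  simpa using hsum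

end Conf

end Cfsg.Agent.SporRec.R3.Config
end

-- part: SporRec/R3/YPart
section
/-! The part `Λ` of a rank three configuration identified with a known `H`-set `Y`. -/

set_option autoImplicit false
set_option linter.unusedSectionVars false

namespace Cfsg.Agent.SporRec.R3.YPart

open Finset Cfsg.Agent.SporRec.R3.Config

variable {Ω : Type*} [Fintype Ω] [DecidableEq Ω] {H : Type*} [Group H]
variable {Y : Type*} [Fintype Y] [DecidableEq Y]

/-- an equivariant parametrisation of `Λ` by `Y` -/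
structure YMap (C : Conf Ω H) (ρ : H →* Equiv.Perm Y) where
  f : Y → Ω
  inj : Function.Injective f
  mem : ∀ y, f y ∈ C.Λ
  surj : ∀ x ∈ C.Λ, ∃ y, f y = x
  eqv : ∀ h y, f (ρ h y) = C.act h (f y)

namespace YMap

variable {C : Conf Ω H} {ρ : H →* Equiv.Perm Y} (M : YMap C ρ)

/-- the set of points of `Y` adjacent to `d` -/
noncomputable def S (d : Ω) : Finset Y := univ.filter fun y => C.adj d (M.f y)

/-- adjacency inside `Y` -/
noncomputable def A (y : Y) : Finset Y := univ.filter fun w => C.adj (M.f y) (M.f w)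

theorem mem_S (d : Ω) (y : Y) : y ∈ M.S d ↔ C.adj d (M.f y) := by simp [S]
theorem mem_A (y w : Y) : w ∈ M.A y ↔ C.adj (M.f y) (M.f w) := by simp [A]

theorem S_act (h : H) (d : Ω) (y : Y) : ρ h y ∈ M.S (C.act h d) ↔ y ∈ M.S d := by
  rw [mem_S, mem_S, M.eqv, C.adj_act]

theorem A_act (h : H) (y w : Y) : ρ h w ∈ M.A (ρ h y) ↔ w ∈ M.A y := by
  rw [mem_A, mem_A, M.eqv, M.eqv, C.adj_act]

theorem self_notMem_A (y : Y) : y ∉ M.A y := by rw [mem_A]; exact C.not_adj_self _

theorem mem_A_comm (y w : Y) : w ∈ M.A y ↔ y ∈ M.A w := by rw [mem_A, mem_A, C.adj_comm]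

theorem Λ_eq : C.Λ = univ.map ⟨M.f, M.inj⟩ := by
  ext x
  simp only [mem_map, mem_univ, true_and, Function.Embedding.coeFn_mk]
  exact ⟨fun h => M.surj x h, fun ⟨y, hy⟩ => hy ▸ M.mem y⟩

include M in
theorem card_Λ : C.Λ.card = Fintype.card Y := by rw [M.Λ_eq, card_map, card_univ]

theorem filter_Λ_card (p : Ω → Prop) [DecidablePred p] :
    (C.Λ.filter p).card = (univ.filter fun y => p (M.f y)).card := by
  rw [M.Λ_eq, filter_map, card_map]; rfl

theorem card_A (y : Y) : (M.A y).card + C.mu = C.Δ.card := by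
  have := C.card_Λ_adj' (M.mem y)
  rw [M.filter_Λ_card] at this
  exact this

theorem card_S {d : Ω} (hd : d ∈ C.Δ) : (M.S d).card + C.lam + 1 = C.Δ.card := by
  have := C.card_Λ_adj hd
  rw [M.filter_Λ_card] at this
  exact this

/-- number of `d ∈ Δ` adjacent to both `y` and `z` -/
noncomputable def m (M : YMap C ρ) (y z : Y) : ℕ := (C.Δ.filter fun d => y ∈ M.S d ∧ z ∈ M.S d).card

theorem m_self (y : Y) : M.m y y = C.mu := by
  rw [← C.card_Δ_adj (M.mem y)]
  unfold m
  congr 1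
  ext d
  simp [mem_S]

theorem m_add (y z : Y) : M.m y z + (M.A y ∩ M.A z).card = C.cn (M.f y) (M.f z) := by
  classical
  have e : (M.A y ∩ M.A z).card = (C.Λ.filter fun w => C.adj (M.f y) w ∧ C.adj (M.f z) w).card := by
    rw [M.filter_Λ_card]
    congr 1
    ext w
    simp [mem_A]
  rw [e]
  unfold m Conf.cn
  rw [← card_union_of_disjoint]
  · congr 1
    ext w
    simp only [mem_union, mem_filter, mem_univ, true_and, mem_S]
    constructor
    · rintro (⟨h1, h2, h3⟩ | ⟨h1, h2, h3⟩)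
      · exact ⟨C.adj_symm h2, C.adj_symm h3⟩
      · exact ⟨h2, h3⟩
    · rintro ⟨h2, h3⟩
      rcases C.cover w with h | h | h
      · exfalso
        rw [h, C.adj_comm, C.adj_alpha] at h2
        exact (Finset.disjoint_left.1 C.disj) h2 (M.mem y)
      · exact Or.inl ⟨h, C.adj_symm h2, C.adj_symm h3⟩
      · exact Or.inr ⟨h, h2, h3⟩
  · rw [Finset.disjoint_left]
    intro w hw hw'
    exact (Finset.disjoint_left.1 C.disj) (mem_filter.1 hw).1 (mem_filter.1 hw').1

theorem m_act (h : H) (y z : Y) : M.m (ρ h y) (ρ h z) = M.m y z := by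
  classical
  unfold m
  have : (C.Δ.filter fun d => ρ h y ∈ M.S d ∧ ρ h z ∈ M.S d) =
      (C.Δ.filter fun d => y ∈ M.S d ∧ z ∈ M.S d).map (C.act h).toEmbedding := by
    ext d
    rw [Finset.mem_map_equiv]
    simp only [mem_filter]
    have e : (Equiv.symm (C.act h)) d = C.act h⁻¹ d := by
      rw [map_inv]; rfl
    rw [e]
    have hd : d ∈ C.Δ ↔ C.act h⁻¹ d ∈ C.Δ := by
      constructor
      · exact C.hΔ _ _
      · intro hh
        have := C.hΔ h _ hh
        rw [← Equiv.Perm.mul_apply, ← map_mul] at this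
        simpa using this
    rw [← hd, ← M.S_act h (C.act h⁻¹ d) y, ← M.S_act h (C.act h⁻¹ d) z,
      ← Equiv.Perm.mul_apply, ← map_mul]
    simp
  rw [this, card_map]

theorem m_comm (y z : Y) : M.m y z = M.m z y := by
  unfold m; congr 1; ext d; simp [and_comm]

theorem A_inter_act (h : H) (y z : Y) :
    (M.A (ρ h y) ∩ M.A (ρ h z)).card = (M.A y ∩ M.A z).card := by
  have : M.A (ρ h y) ∩ M.A (ρ h z) = (M.A y ∩ M.A z).map (ρ h).toEmbedding := by
    ext w
    rw [Finset.mem_map_equiv, mem_inter, mem_inter, ← M.A_act h y, ← M.A_act h z]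
    simp
  rw [this, card_map]

/-- an orbit of the stabiliser of `y0` lies in `A y0` or misses it -/
theorem sub_or_disj {y0 : Y} {D : Finset Y}
    (hD : ∀ y ∈ D, ∀ z ∈ D, ∃ h, ρ h y0 = y0 ∧ ρ h y = z) :
    D ⊆ M.A y0 ∨ Disjoint D (M.A y0) := by
  by_cases hx : ∃ y ∈ D, y ∈ M.A y0
  · obtain ⟨y, hy, hyA⟩ := hx
    left
    intro z hz
    obtain ⟨h, h0, hh⟩ := hD y hy z hz
    rw [← hh, ← h0, M.A_act]
    exact hyA
  · right
    rw [Finset.disjoint_left]
    intro y hy hyA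
    exact hx ⟨y, hy, hyA⟩

/-- injectivity of `S` on `Δ` -/
theorem S_inj {s : ℕ} (h1 : C.lam < s) (h2 : C.mu < s) (h3 : s + C.lam + 1 = C.Δ.card)
    {d d' : Ω} (hd : d ∈ C.Δ) (_hd' : d' ∈ C.Δ) (h : M.S d = M.S d') : d = d' := by
  classical
  by_contra hne
  have hs : (M.S d).card = s := by have := M.card_S hd; omega
  have hle : (M.S d).card ≤ C.cn d d' := by
    unfold Conf.cn
    rw [← card_map ⟨M.f, M.inj⟩]
    apply card_le_card
    intro x hx
    rw [mem_map] at hx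
    obtain ⟨y, hy, rfl⟩ := hx
    rw [mem_filter]
    refine ⟨mem_univ _, ?_, ?_⟩
    · exact (M.mem_S d y).1 hy
    · rw [h] at hy
      exact (M.mem_S d' y).1 hy
  by_cases ha : C.adj d d'
  · rw [C.cn_adj ha] at hle; omega
  · rw [C.cn_nonadj hne ha] at hle; omega

end YMap

/-- the sum of squares identity -/
theorem sumsq {ι : Type*} (Δ : Finset ι) (S : ι → Finset Y) (D : Finset Y) (y0 : Y) (a b : ℤ) :
    ∑ d ∈ Δ, (((S d ∩ D).card : ℤ) - a * (if y0 ∈ S d then 1 else 0) - b) ^ 2 =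
      (∑ q ∈ D, ∑ q' ∈ D, ((Δ.filter fun d => q ∈ S d ∧ q' ∈ S d).card : ℤ))
      + a ^ 2 * ((Δ.filter fun d => y0 ∈ S d ∧ y0 ∈ S d).card : ℤ)
      + b ^ 2 * (Δ.card : ℤ)
      - 2 * a * (∑ q ∈ D, ((Δ.filter fun d => y0 ∈ S d ∧ q ∈ S d).card : ℤ))
      - 2 * b * (∑ q ∈ D, ((Δ.filter fun d => q ∈ S d ∧ q ∈ S d).card : ℤ))
      + 2 * a * b * ((Δ.filter fun d => y0 ∈ S d ∧ y0 ∈ S d).card : ℤ) := by
  classical
  set I : ι → Y → ℤ := fun d q => if q ∈ S d then 1 else 0 with hI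
  have hm : ∀ q q', ((Δ.filter fun d => q ∈ S d ∧ q' ∈ S d).card : ℤ) = ∑ d ∈ Δ, I d q * I d q' := by
    intro q q'
    rw [card_filter]
    push_cast
    apply sum_congr rfl
    intro d _
    by_cases h1 : q ∈ S d <;> by_cases h2 : q' ∈ S d <;> simp [hI, h1, h2]
  have hc : ∀ d, ((S d ∩ D).card : ℤ) = ∑ q ∈ D, I d q := by
    intro d
    rw [inter_comm, ← filter_mem_eq_inter, card_filter]
    push_cast
    rfl
  have hII : ∀ d q, I d q * I d q = I d q := by
    intro d q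
    by_cases h1 : q ∈ S d <;> simp [hI, h1]
  simp only [hm, hc]
  have e0 : ∀ d, (if y0 ∈ S d then (1:ℤ) else 0) = I d y0 := fun d => rfl
  simp only [e0]
  obtain ⟨P, hP⟩ : ∃ P : ι → ℤ, ∀ d, P d = ∑ q ∈ D, ∑ q' ∈ D, I d q * I d q' := ⟨_, fun _ => rfl⟩
  obtain ⟨Q, hQ⟩ : ∃ Q : ι → ℤ, ∀ d, Q d = ∑ q ∈ D, I d y0 * I d q := ⟨_, fun _ => rfl⟩
  obtain ⟨R, hR⟩ : ∃ R : ι → ℤ, ∀ d, R d = ∑ q ∈ D, I d q * I d q := ⟨_, fun _ => rfl⟩
  have expand : ∀ d, (∑ q ∈ D, I d q - a * I d y0 - b) ^ 2 =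
      P d + a ^ 2 * (I d y0 * I d y0) + b ^ 2
      - 2 * a * Q d - 2 * b * R d + 2 * a * b * (I d y0 * I d y0) := by
    intro d
    have h1 : P d = (∑ q ∈ D, I d q) * (∑ q ∈ D, I d q) := by
      rw [hP, sum_mul_sum]
    have h2 : Q d = I d y0 * ∑ q ∈ D, I d q := by rw [hQ, mul_sum]
    have h3 : R d = ∑ q ∈ D, I d q := by rw [hR]; exact sum_congr rfl fun q _ => hII d q
    rw [h1, h2, h3]
    have h4 := hII d y0
    linear_combination (2 * a * b) * (-h4 )
  rw [sum_congr rfl (fun d _ => expand d)]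
  simp only [sum_add_distrib, sum_sub_distrib, ← mul_sum]
  have s1 : ∑ q ∈ D, ∑ q' ∈ D, ∑ d ∈ Δ, I d q * I d q' = ∑ d ∈ Δ, P d := by
    simp only [hP]
    symm
    rw [sum_comm]
    apply sum_congr rfl
    intro q _
    rw [sum_comm]
  have s2 : ∑ q ∈ D, ∑ d ∈ Δ, I d y0 * I d q = ∑ d ∈ Δ, Q d := by
    simp only [hQ]; exact sum_comm
  have s3 : ∑ q ∈ D, ∑ d ∈ Δ, I d q * I d q = ∑ d ∈ Δ, R d := by
    simp only [hR]; exact sum_comm
  rw [s1, s2, s3]
  simp only [sum_const, nsmul_eq_mul]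
  ring

end Cfsg.Agent.SporRec.R3.YPart
end

-- part: SporRec/R3/Scheme
section
/-! The equation `|S d ∩ N(y)| = a [y ∈ S d] + b` from the suborbit data of `Y`. -/

set_option autoImplicit false
set_option linter.unusedSectionVars false

namespace Cfsg.Agent.SporRec.R3.Scheme

open Finset Cfsg.Agent.SporRec.R3.Config Cfsg.Agent.SporRec.R3.YPart Cfsg.Agent.SporRec.R3.Kernel

variable {Ω : Type*} [Fintype Ω] [DecidableEq Ω] {H : Type*} [Group H]
variable {Y : Type*} [Fintype Y] [DecidableEq Y]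
variable {C : Conf Ω H} {ρ : H →* Equiv.Perm Y}

/-- the class function `cls` has the property that points of the same class are conjugate
under the stabiliser of `y0` -/
def StabTrans (ρ : H →* Equiv.Perm Y) (y0 : Y) (cls : Y → ℕ) : Prop :=
  ∀ y z : Y, cls y = cls z → ∃ h, ρ h y0 = y0 ∧ ρ h y = z

/-- the points of class `c` -/
def D (cls : Y → ℕ) (c : ℕ) : Finset Y := univ.filter fun y => cls y = c

theorem mem_D (cls : Y → ℕ) (c : ℕ) (y : Y) : y ∈ D cls c ↔ cls y = c := by simp [D]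

theorem D_sub_or_disj (M : YMap C ρ) {y0 : Y} {cls : Y → ℕ} (hst : StabTrans ρ y0 cls) (c : ℕ) :
    D cls c ⊆ M.A y0 ∨ Disjoint (D cls c) (M.A y0) := by
  apply M.sub_or_disj
  intro y hy z hz
  rw [mem_D] at hy hz
  exact hst y z (by rw [hy, hz])

theorem mem_A_rho (M : YMap C ρ) (h : H) (y0 w : Y) :
    w ∈ M.A (ρ h y0) ↔ ρ h⁻¹ w ∈ M.A y0 := by
  rw [← M.A_act h y0 (ρ h⁻¹ w), ← Equiv.Perm.mul_apply, ← map_mul]; simp

/-- the value of `m y0 z` on a class -/
theorem m_class (M : YMap C ρ) {y0 : Y} {cls : Y → ℕ} (hst : StabTrans ρ y0 cls) {c0 : ℕ}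
    (hA : M.A y0 = D cls c0) {c p : ℕ} (h : H) (hr : cls (ρ h y0) = c)
    (hp : (univ.filter fun w => cls w = c0 ∧ cls (ρ h⁻¹ w) = c0).card = p)
    (z : Y) (hz : cls z = c) : M.m y0 z + p = C.cn (M.f y0) (M.f z) := by
  classical
  obtain ⟨s, hs0, hs⟩ := hst (ρ h y0) z (by rw [hr, hz])
  rw [← M.m_add y0 z]
  congr 1
  have e := M.A_inter_act s y0 (ρ h y0)
  rw [hs0, hs] at e
  rw [e, ← hp]
  congr 1
  ext w
  rw [mem_inter, mem_A_rho, hA, mem_D, mem_D, mem_filter]
  simp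

/-- the main equation -/
theorem eqn (M : YMap C ρ) {y0 : Y} {cls : Y → ℕ} (mval : ℕ → ℕ) (valid : ℕ → Prop)
    (hm : ∀ z, valid (cls z) → M.m y0 z = mval (cls z)) (c1 : ℕ) (hv1 : valid c1)
    (n1 trow : ℕ) (hn1 : (D cls c1).card = n1)
    (hrow : ∀ q ∈ D cls c1, ∃ h, ρ h y0 = q ∧
      (∀ q' ∈ D cls c1, valid (cls (ρ h⁻¹ q'))) ∧
      ∑ q' ∈ D cls c1, mval (cls (ρ h⁻¹ q')) = trow)
    (a b : ℤ)
    (harith : (n1 : ℤ) * trow + a ^ 2 * C.mu + b ^ 2 * C.Δ.card - 2 * a * (n1 * mval c1)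
      - 2 * b * (n1 * C.mu) + 2 * a * b * C.mu = 0) :
    ∀ d ∈ C.Δ, ((M.S d ∩ D cls c1).card : ℤ) = a * (if y0 ∈ M.S d then 1 else 0) + b := by
  classical
  have hsq := sumsq C.Δ M.S (D cls c1) y0 a b
  have e1 : ∀ q q', ((C.Δ.filter fun d => q ∈ M.S d ∧ q' ∈ M.S d).card : ℤ) = M.m q q' := fun _ _ => rfl
  simp only [e1, M.m_self] at hsq
  have e2 : (∑ q ∈ D cls c1, ∑ q' ∈ D cls c1, (M.m q q' : ℤ)) = n1 * trow := by
    rw [← hn1, ← nsmul_eq_mul, ← sum_const]
    apply sum_congr rfl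
    intro q hq
    obtain ⟨h, h0, hval, hs⟩ := hrow q hq
    rw [← hs]
    push_cast
    apply sum_congr rfl
    intro q' hq'
    rw [← hm _ (hval q' hq'), ← M.m_act h y0 (ρ h⁻¹ q'), h0, ← Equiv.Perm.mul_apply, ← map_mul]
    simp
  have e3 : (∑ q ∈ D cls c1, (M.m y0 q : ℤ)) = n1 * mval c1 := by
    rw [← hn1]
    rw [sum_congr rfl (g := fun _ => (mval c1 : ℤ))]
    · simp
    · intro q hq
      rw [mem_D] at hq
      rw [hm q (by rw [hq]; exact hv1), hq]
  have e4 : (∑ q ∈ D cls c1, (C.mu : ℤ)) = n1 * C.mu := by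
    rw [← hn1]; simp
  rw [e2, e3, e4] at hsq
  have hz : ∑ d ∈ C.Δ, (((M.S d ∩ D cls c1).card : ℤ) - a * (if y0 ∈ M.S d then 1 else 0) - b) ^ 2 = 0 := by
    rw [hsq]; linarith
  intro d hd
  have := (sum_eq_zero_iff_of_nonneg (fun d _ => sq_nonneg _)).1 hz d hd
  have h2 := pow_eq_zero_iff (two_ne_zero) |>.1 this
  linarith

/-- transported version -/
theorem eqn_transport (M : YMap C ρ) {y0 : Y} {D1 : Finset Y} {a b : ℤ}
    (h0 : ∀ d ∈ C.Δ, ((M.S d ∩ D1).card : ℤ) = a * (if y0 ∈ M.S d then 1 else 0) + b)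
    (h : H) (d : Ω) (hd : d ∈ C.Δ) :
    ((D1.filter fun q => ρ h q ∈ M.S d).card : ℤ) = a * (if ρ h y0 ∈ M.S d then 1 else 0) + b := by
  classical
  have hd' := C.hΔ h⁻¹ d hd
  have hkey : ∀ q, q ∈ M.S (C.act h⁻¹ d) ↔ ρ h q ∈ M.S d := by
    intro q
    rw [← M.S_act h (C.act h⁻¹ d) q, ← Equiv.Perm.mul_apply, ← map_mul]
    simp
  have := h0 _ hd'
  rw [inter_comm, ← filter_mem_eq_inter] at this
  simp only [hkey] at this
  exact this

end Cfsg.Agent.SporRec.R3.Scheme
end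

-- part: SporRec/R3/SchemeK
section
/-! Kernel checkers for the suborbit data. -/

set_option autoImplicit false
set_option linter.unusedSectionVars false

namespace Cfsg.Agent.SporRec.R3.SchemeK

open Finset Cfsg.Agent.SporRec.R3.Config Cfsg.Agent.SporRec.R3.YPart Cfsg.Agent.SporRec.R3.Kernel
open Cfsg.Agent.SporRec.R3.Scheme

variable {ι : Type} {H : Type*} [Group H] {n : ℕ}

/-- stabiliser words `W` fix `0`, and every non-root point is moved down inside its class -/
noncomputable def chkStab (n : ℕ) (tab : ι → ℕ) (W : List (List ι)) (cls root : ℕ → ℕ) : Bool :=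
  Bool.rec false
    (allB (fun i => Bool.rec
        (anyL (fun w => Bool.rec false (Nat.beq (cls (evalW tab w i)) (cls i))
          (Nat.ble (Nat.succ (evalW tab w i)) i)) W)
        true (Nat.beq i (root (cls i)))) n)
    (allL (fun w => Nat.beq (evalW tab w 0) 0) W)

theorem stabTrans_of_chk (hn : 0 < n) (tab : ι → ℕ) (gen : ι → H) (ρ : H →* Equiv.Perm (Fin n))
    (hgen : ∀ g (y : Fin n), ((ρ (gen g) y : Fin n) : ℕ) = look (tab g) y)
    (W : List (List ι)) (cls root : ℕ → ℕ) (h : chkStab n tab W cls root = true) :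
    StabTrans ρ ⟨0, hn⟩ (fun y => cls y.val) := by
  unfold chkStab at h
  rw [and3, Bool.and_eq_true, allL_iff, allB_iff] at h
  obtain ⟨h1, h2⟩ := h
  have key : ∀ (k : ℕ) (y : Fin n), y.val = k → ∃ g, ρ g ⟨0, hn⟩ = ⟨0, hn⟩ ∧
      ((ρ g y : Fin n) : ℕ) = root (cls y.val) := by
    intro k
    induction k using Nat.strong_induction_on with
    | _ k ih =>
      intro y hy
      have h3 := h2 y.val y.2
      rw [or3, Bool.or_eq_true, Nat.beq_eq, anyL_iff] at h3
      rcases h3 with h3 | ⟨w, hw, h3⟩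
      · exact ⟨1, by simp, by simpa using h3⟩
      · rw [and3, Bool.and_eq_true, Nat.ble_eq, Nat.beq_eq] at h3
        obtain ⟨h4, h5⟩ := h3
        have e := evalW_spec gen ρ tab hgen w y
        obtain ⟨g, hg0, hg⟩ := ih (evalW tab w y.val) (by rw [← hy]; exact h4) (ρ (gw gen w) y) e
        refine ⟨g * gw gen w, ?_, ?_⟩
        · rw [map_mul, Equiv.Perm.mul_apply]
          have e0 : ρ (gw gen w) ⟨0, hn⟩ = ⟨0, hn⟩ := by
            apply Fin.ext
            rw [evalW_spec gen ρ tab hgen w ⟨0, hn⟩]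
            have := h1 w hw
            rw [Nat.beq_eq] at this
            exact this
          rw [e0, hg0]
        · rw [map_mul, Equiv.Perm.mul_apply, hg, e, h5]
  intro y z hyz
  obtain ⟨g, hg0, hg⟩ := key _ y rfl
  obtain ⟨g', hg0', hg'⟩ := key _ z rfl
  refine ⟨g'⁻¹ * g, ?_, ?_⟩
  · rw [map_mul, Equiv.Perm.mul_apply, hg0, map_inv, Equiv.Perm.inv_eq_iff_eq, hg0']
  · have : ρ g y = ρ g' z := Fin.ext (by rw [hg, hg']; exact congrArg root hyz)
    rw [map_mul, Equiv.Perm.mul_apply, this, map_inv]; simp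

theorem card_filter_fin (P : ℕ → Bool) :
    (univ.filter fun w : Fin n => P w = true).card = sumB (fun i => b2n (P i)) n := by
  rw [sumB_eq, card_filter, Finset.sum_range]
  simp [b2n_eq]

/-- the class `c` is the interval `[lo, lo+len)` -/
noncomputable def chkRange (n : ℕ) (cls : ℕ → ℕ) (c lo len : ℕ) : Bool :=
  Bool.rec false
    (allB (fun i => Bool.rec
        (Bool.rec true false (Bool.rec false (Nat.ble (Nat.succ i) (Nat.add lo len)) (Nat.ble lo i)))
        (Bool.rec false (Nat.ble (Nat.succ i) (Nat.add lo len)) (Nat.ble lo i))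
        (Nat.beq (cls i) c)) n)
    (Nat.ble (Nat.add lo len) n)

theorem chkRange_spec {cls : ℕ → ℕ} {c lo len : ℕ} (h : chkRange n cls c lo len = true) :
    lo + len ≤ n ∧ ∀ i < n, (cls i = c ↔ lo ≤ i ∧ i < lo + len) := by
  unfold chkRange at h
  rw [and3, Bool.and_eq_true, Nat.ble_eq, allB_iff] at h
  refine ⟨h.1, fun i hi => ?_⟩
  have := h.2 i hi
  rw [and3] at this
  by_cases hc : cls i = c
  · have e : Nat.beq (cls i) c = true := by rw [Nat.beq_eq]; exact hc
    rw [e] at this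
    change (Nat.ble lo i && Nat.ble (Nat.succ i) (Nat.add lo len)) = true at this
    rw [Bool.and_eq_true, Nat.ble_eq, Nat.ble_eq] at this
    exact ⟨fun _ => ⟨this.1, this.2⟩, fun _ => hc⟩
  · have e : Nat.beq (cls i) c = false := by
      rw [Bool.eq_false_iff, ne_eq, Nat.beq_eq]; exact hc
    rw [e] at this
    refine ⟨fun h => absurd h hc, fun h2 => ?_⟩
    exfalso
    have h3 : (Nat.ble lo i && Nat.ble (Nat.succ i) (Nat.add lo len)) = true := by
      rw [Bool.and_eq_true, Nat.ble_eq, Nat.ble_eq]; exact ⟨h2.1, h2.2⟩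
    rw [h3] at this
    exact Bool.false_ne_true this

theorem sum_D {cls : ℕ → ℕ} {c lo len : ℕ} (h : chkRange n cls c lo len = true) (F : ℕ → ℕ) :
    ∑ q ∈ D (fun y : Fin n => cls y.val) c, F q.val = ∑ j ∈ range len, F (lo + j) := by
  obtain ⟨h1, h2⟩ := chkRange_spec h
  unfold D
  rw [sum_filter, Finset.sum_fin_eq_sum_range]
  have : ∑ j ∈ range len, F (lo + j) = ∑ i ∈ Ico lo (lo + len), F i := by
    rw [Finset.sum_Ico_eq_sum_range]; simp
  rw [this]
  symm
  apply Finset.sum_subset_zero_on_sdiff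
  · intro i hi
    rw [mem_Ico] at hi
    rw [mem_range]; omega
  · intro i hi
    rw [mem_sdiff, mem_range, mem_Ico] at hi
    rw [dif_pos hi.1]
    by_cases hc : cls i = c
    · exact absurd ((h2 i hi.1).1 hc) hi.2
    · rw [if_neg hc]
  · intro i hi
    rw [mem_Ico] at hi
    rw [dif_pos (by omega : i < n), if_pos]
    exact (h2 i (by omega)).2 hi

theorem card_D {cls : ℕ → ℕ} {c lo len : ℕ} (h : chkRange n cls c lo len = true) :
    (D (fun y : Fin n => cls y.val) c).card = len := by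
  have := sum_D h (fun _ => 1)
  simpa using this

/-- count of `w` of class `c0` mapped by the word `wi` into class `c0` -/
noncomputable def cntC (n : ℕ) (tab : ι → ℕ) (cls : ℕ → ℕ) (c0 : ℕ) (wi : List ι) : ℕ :=
  sumB (fun i => b2n (Bool.rec false (Nat.beq (cls (evalW tab wi i)) c0) (Nat.beq (cls i) c0))) n

theorem cntC_spec (tab : ι → ℕ) (gen : ι → H) (ρ : H →* Equiv.Perm (Fin n))
    (hgen : ∀ g (y : Fin n), ((ρ (gen g) y : Fin n) : ℕ) = look (tab g) y)
    (inv : ι → ι) (hinv : ∀ g, gen (inv g) = (gen g)⁻¹)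
    (cls : ℕ → ℕ) (c0 : ℕ) (w : List ι) :
    (univ.filter fun y : Fin n => cls y.val = c0 ∧ cls (ρ (gw gen w)⁻¹ y : Fin n).val = c0).card =
      cntC n tab cls c0 (winv inv w) := by
  unfold cntC
  rw [← card_filter_fin]
  congr 1
  ext y
  simp only [mem_filter, mem_univ, true_and, and3, Bool.and_eq_true, Nat.beq_eq]
  rw [← gw_winv gen inv hinv, evalW_spec gen ρ tab hgen]

/-- row check: for every `j < len` the word `Wq j` maps `0` to `lo + j`, all values are valid
classes and the sum is `trow` -/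
noncomputable def chkRows (tab : ι → ℕ) (inv : ι → ι) (cls mval : ℕ → ℕ) (vmax : ℕ) (Wq : ℕ → List ι)
    (lo len trow : ℕ) : Bool :=
  allB (fun j => Bool.rec false
    (Bool.rec false
      (allS (fun j' => Nat.ble (cls (evalW tab (winv inv (Wq j)) (Nat.add lo j'))) vmax) len)
      (Nat.beq (sumS (fun j' => mval (cls (evalW tab (winv inv (Wq j)) (Nat.add lo j')))) len) trow))
    (Nat.beq (evalW tab (Wq j) 0) (Nat.add lo j))) len

theorem chkRows_spec (hn : 0 < n) (tab : ι → ℕ) (gen : ι → H) (ρ : H →* Equiv.Perm (Fin n))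
    (hgen : ∀ g (y : Fin n), ((ρ (gen g) y : Fin n) : ℕ) = look (tab g) y)
    (inv : ι → ι) (hinv : ∀ g, gen (inv g) = (gen g)⁻¹)
    {cls mval : ℕ → ℕ} {vmax : ℕ} {Wq : ℕ → List ι} {c lo len trow : ℕ}
    (hr : chkRange n cls c lo len = true)
    (h : chkRows tab inv cls mval vmax Wq lo len trow = true) :
    ∀ q ∈ D (fun y : Fin n => cls y.val) c, ∃ g, ρ g ⟨0, hn⟩ = q ∧
      (∀ q' ∈ D (fun y : Fin n => cls y.val) c, cls (ρ g⁻¹ q' : Fin n).val ≤ vmax) ∧
      ∑ q' ∈ D (fun y : Fin n => cls y.val) c, mval (cls (ρ g⁻¹ q' : Fin n).val) = trow := by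
  obtain ⟨hr1, hr2⟩ := chkRange_spec hr
  intro q hq
  rw [mem_D] at hq
  have hq' := (hr2 q.val q.2).1 hq
  unfold chkRows at h
  rw [allB_iff] at h
  have h1 := h (q.val - lo) (by omega)
  rw [and3, Bool.and_eq_true, and3, Bool.and_eq_true, Nat.beq_eq, Nat.beq_eq, allS_iff] at h1
  obtain ⟨h2, h3, h4⟩ := h1
  have e : ∀ y : Fin n, ((ρ (gw gen (Wq (q.val - lo)))⁻¹ y : Fin n) : ℕ) =
      evalW tab (winv inv (Wq (q.val - lo))) y.val := by
    intro y
    rw [← gw_winv gen inv hinv, evalW_spec gen ρ tab hgen]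
  refine ⟨gw gen (Wq (q.val - lo)), ?_, ?_, ?_⟩
  · apply Fin.ext
    rw [evalW_spec gen ρ tab hgen]
    change evalW tab (Wq (q.val - lo)) 0 = q.val
    rw [h2]
    change lo + (q.val - lo) = q.val
    omega
  · intro q' hq'
    rw [mem_D] at hq'
    have h5 := (hr2 q'.val q'.2).1 hq'
    rw [e]
    have h6 := h4 (q'.val - lo) (by omega)
    rw [Nat.ble_eq] at h6
    have : Nat.add lo (q'.val - lo) = q'.val := by change lo + (q'.val - lo) = q'.val; omega
    rwa [this] at h6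
  · simp only [e]
    rw [sum_D hr (fun i => mval (cls (evalW tab (winv inv (Wq (q.val - lo))) i)))]
    rw [← h3, sumS_eq]
    rfl

/-- every point of `(lo, lo+len)` is moved down inside the interval by one of the letters -/
noncomputable def chkReach (tab : ι → ℕ) (S : List ι) (lo len : ℕ) : Bool :=
  allB (fun j => Bool.rec
    (anyL (fun x => Bool.rec false (Nat.ble (Nat.succ (look (tab x) (Nat.add lo j))) (Nat.add lo j))
      (Nat.ble lo (look (tab x) (Nat.add lo j)))) S)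
    true (Nat.beq j 0)) len

theorem reach_of_chk (tab : ι → ℕ) (gen : ι → H) (ρ : H →* Equiv.Perm (Fin n))
    (hgen : ∀ g (y : Fin n), ((ρ (gen g) y : Fin n) : ℕ) = look (tab g) y)
    (S : List ι) (lo len : ℕ) (h : chkReach tab S lo len = true) :
    ∀ y : Fin n, lo ≤ y.val → y.val < lo + len →
      ∃ g ∈ Subgroup.closure (gen '' {x | x ∈ S}), ((ρ g y : Fin n) : ℕ) = lo := by
  unfold chkReach at h
  rw [allB_iff] at h
  have key : ∀ (k : ℕ) (y : Fin n), y.val = k → lo ≤ y.val → y.val < lo + len →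
      ∃ g ∈ Subgroup.closure (gen '' {x | x ∈ S}), ((ρ g y : Fin n) : ℕ) = lo := by
    intro k
    induction k using Nat.strong_induction_on with
    | _ k ih =>
      intro y hy h1 h2
      have h3 := h (y.val - lo) (by omega)
      have e : Nat.add lo (y.val - lo) = y.val := by change lo + (y.val - lo) = y.val; omega
      rw [or3, Bool.or_eq_true, Nat.beq_eq, anyL_iff, e] at h3
      rcases h3 with h3 | ⟨x, hx, h3⟩
      · exact ⟨1, Subgroup.one_mem _, by simp; omega⟩
      · rw [and3, Bool.and_eq_true, Nat.ble_eq, Nat.ble_eq] at h3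
        obtain ⟨h4, h5⟩ := h3
        have e1 := hgen x y
        obtain ⟨g, hg, hg'⟩ := ih (look (tab x) y.val) (by rw [← hy]; exact h5) (ρ (gen x) y) e1
          (by rw [e1]; exact h4) (by rw [e1]; have : look (tab x) y.val + 1 ≤ y.val := h5; omega)
        refine ⟨g * gen x, Subgroup.mul_mem _ hg (Subgroup.subset_closure ⟨x, hx, rfl⟩), ?_⟩
        rw [map_mul, Equiv.Perm.mul_apply, hg']
  intro y
  exact key y.val y rfl

end Cfsg.Agent.SporRec.R3.SchemeK
end
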